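import Mathlib
import Cfsg.Agent.Base
import Cfsg.Agent.Lib.FGS83.TurF
import Cfsg.Agent.Lib.FGS83.LowFit

/-!
# A group `F R` with `R` of prime order acting without `F`-fixed vectors (helper49)

An element of `C_Q(R)` that fixes all `R`-fixed vectors acts trivially.
-/

set_option autoImplicit false

namespace H49.FL

open Subgroup H2 H68 H83 Module
open scoped commutatorElement

variable {Y : Type*} [Group Y] {k M : Type*} [Field k] [AddCommGroup M] [Module k M]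

local notation "𝐍(" H ")" => Subgroup.normalizer (SetLike.coe H)
local notation "𝐂(" H ")" => Subgroup.centralizer (SetLike.coe H)

/-- The pair `(F, R)`: what is used of an extraspecial group `F = [F, R]`. -/
structure Pair (F R : Subgroup Y) : Prop where
  prime : (Nat.card R).Prime
  norm : R ≤ 𝐍(F)
  cop : (Nat.card R).Coprime (Nat.card F)
  solv : Group.IsSolvable F
  sub : ∀ F₁ ≤ F, R ≤ 𝐍(F₁) → F ⊓ 𝐂(R) ≤ F₁ ∨ (⁅F₁, F₁⁆ = ⊥ ∧ F₁ ⊓ 𝐂(R) = ⊥)

theorem exists_central [Finite Y] {C K N : Subgroup Y} (hC : Group.IsNilpotent C) (hK : K ≤ C)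
    (hn : C ≤ 𝐍(K)) (h : ¬ K ≤ N) : ∃ z ∈ K, z ∉ N ∧ ∀ y ∈ C, ⁅z, y⁆ ∈ N := by
  obtain ⟨L, ⟨l1, l2, l3⟩, hmin⟩ := (wellFounded_lt (α := Subgroup Y)).has_min
    {L | L ≤ K ∧ C ≤ 𝐍(L) ∧ ¬ L ≤ N} ⟨K, le_rfl, hn, h⟩
  have h1 : ⁅L, C⁆ ≤ L := commutator_le_of_le_normalizer l2
  have h2 : ⁅L, C⁆ ≤ N := by
    by_contra h3
    refine hmin ⁅L, C⁆ ⟨h1.trans l1, le_normalizer_commutator l2 le_normalizer, h3⟩
      (lt_of_le_of_ne h1 fun e => l3 ?_)
    have := le_nres_of_le_commutator (l1.trans hK) le_rfl e.ge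
    rw [nres_eq_bot_iff.2 hC] at this
    exact this.trans bot_le
  obtain ⟨z, hz, hz'⟩ := SetLike.not_le_iff_exists.1 l3
  exact ⟨z, l1 hz, hz', fun y hy => h2 (commutator_mem_commutator hz hy)⟩

/-- The norm argument. -/
theorem norm_arg [Finite Y] {Z J F F₁ : Subgroup Y} {μ : Y → k} (hμ : Form Z J μ)
    (hFZ : F ≤ 𝐍(Z)) (hZF : Z ≤ ⁅Z, F⁆) {c : Y} (hc : c ∈ Z)
    (cop : (Nat.card F).Coprime (orderOf c))
    (h1 : ∀ f ∈ F, f ∈ F₁ → ⁅c⁻¹, f⁻¹⁆ ∈ J) (h2 : ∀ f ∈ F, f ∉ F₁ → f⁻¹ * c * f ∈ J) :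
    c ∈ J := by
  classical
  haveI := Fintype.ofFinite F
  have m1 : μ 1 = 1 := (hμ.one 1 (one_mem _)).1 (one_mem _)
  let ν : Z →* k :=
    { toFun := fun z => ∏ f : F, μ ((f : Y)⁻¹ * z * f)
      map_one' := by simp [m1]
      map_mul' := fun a b => by
        rw [← Finset.prod_mul_distrib]
        refine Finset.prod_congr rfl fun f _ => ?_
        rw [← hμ.mul _ (inv_conj_mem_of_le_normalizer hFZ f.2 a.2) _
          (inv_conj_mem_of_le_normalizer hFZ f.2 b.2)]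
        congr 1
        simp [mul_assoc] }
  have hν : ∀ z : Z, ν z = ∏ f : F, μ ((f : Y)⁻¹ * z * f) := fun _ => rfl
  have h3 : ⁅Z, F⁆ ≤ ν.ker.map Z.subtype := Subgroup.commutator_le.2 fun z hz g hg => by
    have hm := conj_mem_of_le_normalizer hFZ hg (inv_mem hz)
    refine ⟨⟨z, hz⟩ * ⟨_, hm⟩, ?_, by simp [commutatorElement_def, mul_assoc]⟩
    have : ν ⟨_, hm⟩ = ν (⟨z, hz⟩ : Z)⁻¹ := by
      rw [hν, hν]
      exact Fintype.prod_equiv (Equiv.mulLeft (⟨g, hg⟩ : F)⁻¹) _ _ fun f => by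
        simp [mul_assoc]
    rw [SetLike.mem_coe, MonoidHom.mem_ker, map_mul, this, ← map_mul, mul_inv_cancel, map_one]
  obtain ⟨c', hc', e⟩ := h3 (hZF hc)
  have h4 : ∀ f : F, μ ((f : Y)⁻¹ * c * f) = if f ∈ F₁.subgroupOf F then μ c else 1 := by
    intro f
    split_ifs with hf
    · have h5 := h1 f f.2 hf
      have h6 : ⁅c⁻¹, (f : Y)⁻¹⁆ ∈ Z := comm_inv_mem (hFZ f.2) hc
      rw [show (f : Y)⁻¹ * c * f = c * ⁅c⁻¹, (f : Y)⁻¹⁆ by simp [commutatorElement_def, mul_assoc],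
        hμ.mul _ hc _ h6, (hμ.one _ h6).1 h5, mul_one]
    · exact (hμ.one _ (inv_conj_mem_of_le_normalizer hFZ f.2 hc)).1 (h2 f f.2 hf)
  have h5 : ν c' = 1 := hc'
  rw [hν, show (c' : Y) = c from e] at h5
  simp only [h4] at h5
  rw [← Finset.prod_filter, Finset.prod_const] at h5
  have h6 : Nat.card (F₁.subgroupOf F) = (Finset.univ.filter (· ∈ F₁.subgroupOf F)).card := by
    rw [Nat.card_eq_fintype_card, Fintype.card_subtype]
  rw [← h6] at h5
  have h7 : ∀ n, μ (c ^ n) = μ c ^ n := fun n => by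
    induction n with
    | zero => simp [m1]
    | succ n ih => rw [pow_succ, hμ.mul _ (pow_mem hc n) _ hc, ih, pow_succ]
  exact mem_of_pow_mem_of_coprime ((hμ.one _ (pow_mem hc _)).2 ((h7 _).trans h5))
    (cop.coprime_dvd_left (F₁.subgroupOf F).card_subgroup_dvd_card)

variable {σ : Representation k Y M} {Z : Subgroup Y} {U W M₀ : Submodule k M}

/-- The vectors fixed by `B`. -/
def fixS (σ : Representation k Y M) (B : Subgroup Y) : Submodule k M where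
  carrier := {v | ∀ b ∈ B, σ b v = v}
  zero_mem' := fun _ _ => map_zero _
  add_mem' := fun ha hb b h => by rw [map_add, ha b h, hb b h]
  smul_mem' := fun c v hv b h => by rw [map_smul, hv b h]

theorem centralizer_le_stabS_fixS (B : Subgroup Y) : 𝐂(B) ≤ stabS σ (fixS σ B) :=
  le_stabS fun y hy v hv b hb => by rw [← rep_mul_apply, hy b hb, rep_mul_apply, hv b hb]

variable [Finite Y]

theorem noFix_rel (h : IsWsp σ Z U) (hZ : (Nat.card Z : k) ≠ 0) {A : Subgroup Y}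
    (hAZ : A ≤ 𝐍(Z)) (hAM : A ≤ stabS σ M₀) (hA : (Nat.card A : k) ≠ 0) (hf : NoFix σ A M₀) :
    NoFix σ (A ⊓ stabS σ U) (M₀ ⊓ U) := by
  classical
  intro v hv hfix
  haveI := Fintype.ofFinite A
  obtain ⟨P, hP1, hP2⟩ := h.exists_proj
  have h0 : ∑ a : A, σ a v = 0 := by
    refine hf _ (Submodule.sum_mem _ fun a _ => apply_mem_of_stabS (hAM a.2) hv.1) fun b hb => ?_
    rw [map_sum]
    exact Fintype.sum_equiv (Equiv.mulLeft (⟨b, hb⟩ : A)) _ _ fun a => by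
      simp [rep_mul_apply]
  have h1 := congrArg P h0
  rw [map_sum, map_zero] at h1
  have h2 : ∀ a : A, P (σ a v) =
      if a ∈ (stabS σ U).subgroupOf A then (Nat.card Z : k) • v else 0 := by
    intro a
    split_ifs with ha
    · rw [hfix a ⟨a.2, ha⟩, hP1 v hv.2]
    · exact hP2 _ (h.translate (hAZ a.2)) ha _ (apply_mem_tr.2 hv.2)
  simp only [h2] at h1
  rw [← Finset.sum_filter, Finset.sum_const, ← Nat.cast_smul_eq_nsmul k, smul_smul] at h1
  refine (smul_eq_zero.1 h1).resolve_left (mul_ne_zero (fun e => hA ?_) hZ)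
  obtain ⟨c, hc⟩ := ((stabS σ U).subgroupOf A).card_subgroup_dvd_card
  have h3 : Nat.card ((stabS σ U).subgroupOf A) =
      (Finset.univ.filter (· ∈ (stabS σ U).subgroupOf A)).card := by
    rw [Nat.card_eq_fintype_card, Fintype.card_subtype]
  rw [hc, h3, Nat.cast_mul, e, zero_mul]

omit [Finite Y] in
theorem le_normalizer_stabS {B : Subgroup Y} (h : B ≤ stabS σ W) : B ≤ 𝐍(stabS σ W) :=
  h.trans le_normalizer

variable [IsAlgClosed k] [FiniteDimensional k M] {F R : Subgroup Y}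

/-- The abelian case. -/
theorem key_ab (hP : Pair F R) (hZM : Z ≤ stabS σ M₀) (hFM : F ≤ stabS σ M₀)
    (hRM : R ≤ stabS σ M₀) (hFZ : F ≤ 𝐍(Z)) (hRZ : R ≤ 𝐍(Z)) (hZZ : ⁅Z, Z⁆ ≤ kerOn σ M₀)
    (hZF : Z ≤ ⁅Z, F⁆) (hkZ : (Nat.card Z : k) ≠ 0) (hkF : (Nat.card F : k) ≠ 0)
    (cR : (Nat.card R).Coprime (Nat.card Z)) (cF : (Nat.card F).Coprime (Nat.card Z))
    (hf : NoFix σ F M₀) {c : Y} (hc : c ∈ Z) (hcR : c ∈ 𝐂(R))
    (hfix : c ∈ kerOn σ (M₀ ⊓ fixS σ R)) : c ∈ kerOn σ M₀ := by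
  by_contra h0
  obtain ⟨W, hW, hne, hcW⟩ := exists_wsp_rel hkZ hZM hZZ hc h0
  have hoc := H1.orderOf_dvd_card_of_mem hc
  have tr' : ∀ W', IsWsp σ Z W' → M₀ ⊓ W' ≠ ⊥ → ¬ R ≤ stabS σ W' → c ∈ kerOn σ W' :=
    fun W' h1 h2 h3 => (h1.scal.mem_kerOn_iff inf_le_right h2 hc).1
      (h1.trace hkZ hP.prime hRZ hRM h3 (le_normalizer hc) hcR (cR.coprime_dvd_right hoc)
        fun v hv hv' => hfix v ⟨hv, hv'⟩)
  have hRW : R ≤ stabS σ W := by
    by_contra h1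
    exact hcW (tr' W hW hne h1)
  have hRF₁ : R ≤ 𝐍((F ⊓ stabS σ W : Subgroup Y)) :=
    le_normalizer_inf hP.norm (le_normalizer_stabS hRW)
  rcases hP.sub _ inf_le_left hRF₁ with h1 | ⟨h1, h2⟩
  · obtain ⟨μ, hμ⟩ := hW.form
    refine hcW (norm_arg (F₁ := F ⊓ stabS σ W) hμ hFZ hZF hc (cF.coprime_dvd_right hoc)
      (fun f hf hf₁ => ⟨comm_inv_mem (hFZ hf) hc, hW.commutator_le
        (commutator_mem_commutator (inv_mem hc) (inv_mem hf₁.2))⟩)
      fun f hf hf₁ => ⟨inv_conj_mem_of_le_normalizer hFZ hf hc, ?_⟩).2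
    have h3 := tr' _ (hW.translate (hFZ hf)) (by
      have := tr_ne_bot (σ := σ) f hne
      rwa [tr_inf, mem_stabS.1 (hFM hf)] at this) fun h3 => hf₁ ?_
    · rwa [kerOn_tr, mem_cj] at h3
    obtain ⟨⟨a, ha⟩, ha1⟩ := Subgroup.ne_bot_iff_exists_ne_one.1
      (fun e : R = ⊥ => hP.prime.one_lt.ne' (by rw [e, card_bot]))
    refine fpf_prime hP.prime hRF₁ inf_le_left hP.cop h1 hf ha (fun e => ha1 (Subtype.ext e))
      ⟨commutator_le_of_le_normalizer hP.norm (commutator_mem_commutator (inv_mem hf) ha), ?_⟩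
    change _ ∈ stabS σ W
    rw [commutatorElement_def, inv_inv]
    refine mul_mem (mem_stabS.2 ?_) (inv_mem (hRW ha))
    rw [tr_mul, tr_mul, mem_stabS.1 (h3 ha), ← tr_mul, inv_mul_cancel, tr_one]
  · have h3 := noFix_rel hW hkZ hFZ hFM hkF hf
    have h4 : ¬ NoFix σ R (M₀ ⊓ W) := fun h4 => by
      have h5 := commutator_le_kerOn_of_comm (stabS_inf (inf_le_left.trans hFM) inf_le_right)
        (stabS_inf hRM hRW) hRF₁ hP.prime (natCast_card_ne_zero_of_le inf_le_left hkF)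
        (h1.le.trans bot_le) h4
      have h6 := (le_commutator_of_inf_centralizer_eq_bot hRF₁
        (coprime_of_le_right hP.cop inf_le_left)
        (Or.inl (H47.isSolvable_of_card_prime hP.prime)) h2).trans h5
      obtain ⟨v, hv, hv0⟩ := Submodule.exists_mem_ne_zero_of_ne_bot hne
      exact hv0 (h3 v hv fun b hb => h6 hb v hv)
    simp only [NoFix, not_forall] at h4
    obtain ⟨v, hv, hvR, hv0⟩ := h4
    exact hcW (hW.mem_kerOn_of_fix hc hv.2 hv0 (hfix v ⟨hv.1, hvR⟩))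

/-- The key lemma. -/
theorem key {Q : Subgroup Y} (hP : Pair F R) (hQ : Group.IsNilpotent Q) (hQM : Q ≤ stabS σ M₀)
    (hFM : F ≤ stabS σ M₀) (hRM : R ≤ stabS σ M₀) (hFQ : F ≤ 𝐍(Q)) (hRQ : R ≤ 𝐍(Q))
    (hQF : Q ⊓ 𝐂(F) = ⊥) (hkQ : (Nat.card Q : k) ≠ 0) (hkF : (Nat.card F : k) ≠ 0)
    (cR : (Nat.card R).Coprime (Nat.card Q)) (cF : (Nat.card F).Coprime (Nat.card Q))
    (hf : NoFix σ F M₀) : (Q ⊓ 𝐂(R)) ⊓ kerOn σ (M₀ ⊓ fixS σ R) ≤ kerOn σ M₀ := by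
  by_contra h0
  set N := kerOn σ M₀ with hN
  have nN : ∀ {D : Subgroup Y}, D ≤ stabS σ M₀ → D ≤ 𝐍(N) := fun h =>
    h.trans (stabS_le_normalizer σ M₀)
  obtain ⟨z, hz, hzN, hzc⟩ := exists_central (C := Q ⊓ 𝐂(R)) (H1.isNilpotent_of_le hQ inf_le_left)
    inf_le_left (le_normalizer_inf le_normalizer ((stabS_inf (inf_le_left.trans hQM)
      (inf_le_right.trans (centralizer_le_stabS_fixS R))).trans (stabS_le_normalizer σ _))) h0
  obtain ⟨P, ⟨p1, p2, p3⟩, hmin⟩ := (wellFounded_lt (α := Subgroup Y)).has_min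
    {P | P ≤ Q ∧ z ∈ P ∧ F ≤ 𝐍(P)} ⟨Q, le_rfl, hz.1.1, hFQ⟩
  have pmin : ∀ L : Subgroup Y, z ∈ L → F ≤ 𝐍(L) → P ≤ L := fun L h1 h2 => by
    by_contra h3
    exact hmin (P ⊓ L) ⟨inf_le_left.trans p1, ⟨p2, h1⟩, le_normalizer_inf p3 h2⟩
      (lt_of_le_of_ne inf_le_left fun e => h3 (e.ge.trans inf_le_right))
  have p4 : R ≤ 𝐍(P) := fun a ha => Subgroup.mem_normalizer_fintype fun x hx => by
    have := pmin (cj a⁻¹ P) (by
      rw [mem_cj, inv_inv, hz.1.2 a ha, mul_inv_cancel_right]; exact p2) (fun f hf' => by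
      rw [mem_normalizer_iff_cj, ← cj_mul, show f * a⁻¹ = a⁻¹ * (a * f * a⁻¹) by group, cj_mul,
        cj_eq_of_mem_normalizer (p3 (conj_mem_of_le_normalizer hP.norm ha hf'))]) hx
    rwa [mem_cj, inv_inv] at this
  have hPM := p1.trans hQM
  have hkP := natCast_card_ne_zero_of_le p1 hkQ
  have cRP := coprime_of_le_right cR p1
  have cFP := coprime_of_le_right cF p1
  set Z₁ := rad P N with hZ₁
  set Z₂ := rad P Z₁ with hZ₂
  have nZ₁ : ∀ {D : Subgroup Y}, D ≤ 𝐍(P) → D ≤ stabS σ M₀ → D ≤ 𝐍(Z₁) := fun h1 h2 =>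
    le_normalizer_rad h1 (nN h2)
  have nZ₂ : ∀ {D : Subgroup Y}, D ≤ 𝐍(P) → D ≤ stabS σ M₀ → D ≤ 𝐍(Z₂) := fun h1 h2 =>
    le_normalizer_rad h1 (nZ₁ h1 h2)
  have hzp : zpowers z ≤ P := (zpowers_le).2 p2
  have h1 : ∀ y ∈ Z₂, ⁅z, y⁆ ∈ N := fun y hy => by
    by_contra h2
    have ht : ⁅z, y⁆ ∈ Z₁ := comm_mem_symm (rad_comm_le (commutator_mem_commutator hy p2))
    have hkZ : (Nat.card Z₁ : k) ≠ 0 := natCast_card_ne_zero_of_le rad_le hkP
    obtain ⟨W, hW, hne, htW⟩ := exists_wsp_rel hkZ (rad_le.trans hPM)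
      ((commutator_mono le_rfl rad_le).trans rad_comm_le) ht h2
    have hPW : P ≤ 𝐍(kerOn σ (M₀ ⊓ W)) :=
      (hW.le_stabS_inf hPM rad_comm_le).trans (stabS_le_normalizer σ _)
    refine htW ((hW.scal.mem_kerOn_iff inf_le_right hne ht).1 ?_)
    by_cases hRW : R ≤ stabS σ W
    · have hRW' : R ≤ 𝐍(kerOn σ (M₀ ⊓ W)) := (stabS_inf hRM hRW).trans (stabS_le_normalizer σ _)
      have h3 : ⁅⁅Z₂, R⁆, zpowers z⁆ ≤ kerOn σ (M₀ ⊓ W) := by
        refine three_subgroups_le (rad_le.trans hPW) hRW' (hzp.trans hPW) ?_ ?_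
        · rw [(commutator_eq_bot_iff_le_centralizer (H₁ := R) (H₂ := zpowers z)).2
            (le_centralizer_iff.1 ((zpowers_le).2 hz.1.2)), commutator_bot_left]
          exact bot_le
        · refine (commutator_mono ?_ hRW).trans (hW.commutator_le.trans (kerOn_anti inf_le_right))
          rw [commutator_comm]
          exact (commutator_mono le_rfl hzp).trans rad_comm_le
      have h4 : ⁅Z₂ ⊓ 𝐂(R), zpowers z⁆ ≤ kerOn σ (M₀ ⊓ W) := by
        refine (commutator_le_of_generator (D := Z₂ ⊓ 𝐂(R)) (nN hPM p2) fun g hg =>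
          hzc g ⟨p1 (rad_le hg.1), hg.2⟩).trans (kerOn_anti inf_le_left)
      have h5 := commutator_sup_le ((commutator_le_of_le_normalizer (nZ₂ p4 hRM)).trans
        (rad_le.trans hPW)) (inf_le_left.trans (rad_le.trans hPW)) h3 h4
      rw [commutator_sup_centralizer (nZ₂ p4 hRM) (coprime_of_le_right cRP rad_le)
        (Or.inl (H47.isSolvable_of_card_prime hP.prime))] at h5
      exact comm_mem_symm (h5 (commutator_mem_commutator hy (mem_zpowers z)))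
    · have h3 := hW.trace hkZ hP.prime (nZ₁ p4 hRM) hRM hRW (nZ₁ le_normalizer hPM p2) hz.1.2
        (cRP.coprime_dvd_right (H1.orderOf_dvd_card_of_mem p2)) fun v hv hv' => hz.2 v ⟨hv, hv'⟩
      exact commutator_le_of_le_normalizer hPW (commutator_mem_commutator h3 (rad_le hy))
  have h2 : Z₂ ≤ Z₁ := le_rad (nN hPM) rad_le (comm_le_of_le_relC (pmin _
    (mem_relCentralizer.2 ⟨nN hPM p2, h1⟩) (le_normalizer_relCentralizer (nZ₂ p3 hFM) (nN hFM))))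
  have h3 : P ≤ Z₁ := by
    by_contra h3
    obtain ⟨c, hc, hc0, hc1⟩ := exists_central (H1.isNilpotent_of_le hQ p1) le_rfl le_normalizer h3
    exact hc0 (h2 ((mem_rad (nZ₁ le_normalizer hPM)).2 ⟨hc, hc1⟩))
  exact hzN (key_ab hP hPM hFM hRM p3 p4 ((commutator_mono h3 le_rfl).trans rad_comm_le)
    (le_commutator_of_inf_centralizer_eq_bot p3 cFP (Or.inl hP.solv)
      (eq_bot_iff.2 ((inf_le_inf_right _ p1).trans hQF.le))) hkP hkF cRP cFP hf p2 hz.1.2 hz.2)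

end H49.FL
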