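import Mathlib
import Cfsg.Agent.Base
import Cfsg.Agent.Lib.FL49.Key

/-!
# Fitting subgroup and Fitting height of `C_X(R)` (helper49)
-/

set_option autoImplicit false

namespace H49.FL

open Subgroup H2 H68 H83 Cfsg
open scoped commutatorElement

universe u

local notation "𝐍(" H ")" => Subgroup.normalizer (SetLike.coe H)
local notation "𝐂(" H ")" => Subgroup.centralizer (SetLike.coe H)

section Abstract

/-- `q`-elements of `C` centralizing `V ∩ C` modulo `W` centralize `V / W`. -/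
def P1 {G : Type*} [Group G] (C : Subgroup G) : Prop :=
  ∀ (p q : ℕ) (V W : Subgroup G), p.Prime → q.Prime → p ≠ q → V.Characteristic →
    W.Characteristic → El p V W → ∀ t ∈ C, (∃ n, t ^ q ^ n = 1) →
      (∀ v ∈ V ⊓ C, ⁅v, t⁆ ∈ W) → ∀ v ∈ V, ⁅v, t⁆ ∈ W

/-- `C` meets every characteristic section. -/
def P2 {G : Type*} [Group G] (C : Subgroup G) : Prop :=
  ∀ (p : ℕ) (V W : Subgroup G), p.Prime → V.Characteristic → W.Characteristic → El p V W →
    V ⊓ C ≤ W → V ≤ W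

variable {G : Type u} [Group G] {C : Subgroup G}

theorem el_comap {G' : Type*} [Group G'] (f : G →* G') {p : ℕ} {V W : Subgroup G'}
    (h : El p V W) : El p (V.comap f) (W.comap f) :=
  ⟨comap_mono h.le, Subgroup.commutator_le.2 fun x hx y hy => by
    rw [mem_comap, map_commutatorElement]
    exact h.comm (commutator_mem_commutator hx hy), fun x hx => by
    rw [mem_comap, map_pow]; exact h.pw _ hx⟩

theorem P1.quot [Finite G] (h : P1 C) (K : Subgroup G) [K.Characteristic] :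
    P1 (C.map (QuotientGroup.mk' K)) := by
  intro p q V W hp hq hpq hV hW hE t ht ⟨n, hn⟩ h1 v hv
  haveI := Fact.mk hq
  obtain ⟨x, hx, rfl, hx'⟩ := exists_pElement_lift_mem _ ht hn
  obtain ⟨v, rfl⟩ := QuotientGroup.mk'_surjective K v
  rw [← map_commutatorElement]
  exact h p q _ _ hp hq hpq (Characteristic.comap_quotient_mk hV)
    (Characteristic.comap_quotient_mk hW) (el_comap _ hE) x hx hx'
    (fun w hw => by
      rw [mem_comap, map_commutatorElement]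
      exact h1 _ ⟨hw.1, mem_map_of_mem _ hw.2⟩) v hv

theorem P2.quot (h : P2 C) (K : Subgroup G) [K.Characteristic] :
    P2 (C.map (QuotientGroup.mk' K)) := by
  intro p V W hp hV hW hE h1 v hv
  obtain ⟨v, rfl⟩ := QuotientGroup.mk'_surjective K v
  exact h p _ _ hp (Characteristic.comap_quotient_mk hV)
    (Characteristic.comap_quotient_mk hW) (el_comap _ hE)
    (fun w hw => h1 ⟨hw.1, mem_map_of_mem _ hw.2⟩) hv

variable [Finite G]

theorem el_frattini {p : ℕ} [Fact p.Prime] {V : Subgroup G} (hV : IsPGroup p V) :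
    El p V ((frattini V).map V.subtype) :=
  ⟨map_subtype_le _, ((H1.map_subtype_frattini_le_iff hV).1 le_rfl).1,
    ((H1.map_subtype_frattini_le_iff hV).1 le_rfl).2⟩

theorem P1.eq_bot [Group.IsSolvable G] (h : P1 C) {q : ℕ} [hq : Fact q.Prime]
    (h0 : pCore q G = ⊥) {T : Subgroup G} (hT : IsPGroup q T) (hTC : T ≤ C) (hn : C ≤ 𝐍(T)) :
    T = ⊥ := by
  rw [eq_bot_iff, ← h0]
  refine H1.le_pCore_of_le_fitting hT (le_trans ?_ H1.centralizer_fitting_le)
  rw [le_centralizer_iff, H1.fitting_eq_iSup_pCore]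
  refine iSup_le fun ⟨p, hp⟩ => ?_
  haveI := Fact.mk hp
  by_cases hpq : p = q
  · subst hpq
    exact h0.le.trans bot_le
  have hd : pCore p G ⊓ T = ⊥ := (IsPGroup.disjoint_of_ne p q hpq _ _ H1.isPGroup_pCore hT).eq_bot
  rw [← le_centralizer_iff]
  refine le_centralizer_of_commutator_le_frattini le_normalizer_of_normal
    (IsPGroup.coprime_card_of_ne q p (Ne.symm hpq) _ _ hT (H1.isPGroup_pCore.to_subgroup _))
    (Subgroup.commutator_le.2 fun v hv t ht => ?_)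
  refine h p q _ _ hp hq.out hpq inferInstance inferInstance (el_frattini H1.isPGroup_pCore) t
    (hTC ht) (by
      obtain ⟨n, hn⟩ := hT ⟨t, ht⟩
      exact ⟨n, congrArg Subtype.val hn⟩) (fun w hw => ?_) v hv
  have : ⁅w, t⁆ ∈ pCore p G ⊓ T := ⟨commutator_le_left _ ⊤ (commutator_mem_commutator hw.1 trivial),
    commutator_le_of_le_right hn le_rfl (commutator_mem_commutator hw.2 ht)⟩
  rw [hd, mem_bot] at this
  rw [this]
  exact one_mem _

theorem P1.fitting [Group.IsSolvable G] (h : P1 C) : fittingOf C ≤ fittingSubgroup G := by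
  rw [H1.fittingOf_eq_iSup_pCoreOf]
  refine iSup_le fun ⟨q, hq⟩ => ?_
  haveI := Fact.mk hq
  refine le_trans ?_ (H1.pCore_le_fitting q)
  have := (h.quot (pCore q G)).eq_bot H1.pCore_quotient_pCore ((H1.isPGroup_pCoreOf C).map _)
    (map_mono (H1.pCoreOf_le C))
    ((map_mono (H1.le_normalizer_pCoreOf C)).trans (le_normalizer_map _))
  rwa [Subgroup.map_eq_bot_iff, QuotientGroup.ker_mk'] at this

theorem lowFit_top (n : ℕ) : ∀ (G : Type u) [Group G] [Finite G] [Group.IsSolvable G]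
    (C : Subgroup G), P1 C → P2 C → lowFit C n = ⊥ → lowFit (⊤ : Subgroup G) n = ⊥ := by
  induction n with
  | zero =>
    intro G _ _ _ C _ h2 h
    change C = ⊥ at h
    change (⊤ : Subgroup G) = ⊥
    rcases subsingleton_or_nontrivial G with hG | hG
    · exact Subsingleton.elim _ _
    obtain ⟨p, hp, h0⟩ := H1.exists_pCore_ne_bot_of_isSolvable (G := G)
    haveI := Fact.mk hp
    haveI := (Subgroup.nontrivial_iff_ne_bot _).2 h0
    have := h2 p _ _ hp inferInstance inferInstance (el_frattini (H1.isPGroup_pCore (G := G)))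
      (by rw [h]; exact inf_le_right.trans bot_le)
    refine absurd (top_le_iff.1 fun x _ => ?_) (H1.frattini_ne_top (G := pCore p G))
    obtain ⟨y, hy, e⟩ := this x.2
    rwa [← Subtype.ext (a1 := y) (a2 := x) e]
  | succ n ih =>
    intro G _ _ _ C h1 h2 h
    rw [lowFit_succ, nres_eq_bot_iff] at h ⊢
    have h3 := (H1.le_fittingOf (lowFit_le C n) (le_normalizer_lowFit C n) h).trans h1.fitting
    have h4 := ih _ _ (h1.quot (fittingSubgroup G)) (h2.quot _) (by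
      rwa [← map_lowFit, Subgroup.map_eq_bot_iff, QuotientGroup.ker_mk'])
    rw [← map_top_of_surjective _ (QuotientGroup.mk'_surjective _), ← map_lowFit, Subgroup.map_eq_bot_iff,
      QuotientGroup.ker_mk'] at h4
    exact H1.isNilpotent_of_le_fitting h4

end Abstract

variable {Y : Type*} [Group Y] [Finite Y]

/-- The setting: `F R` acts coprimely on `X` and `C_X(F) = 1`. -/
structure Setup (X F R : Subgroup Y) : Prop extends Pair F R where
  RX : R ≤ 𝐍(X)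
  FX : F ≤ 𝐍(X)
  cR : (Nat.card R).Coprime (Nat.card X)
  cF : (Nat.card F).Coprime (Nat.card X)
  fpf : X ⊓ 𝐂(F) = ⊥

variable {X F R V W : Subgroup Y} {p : ℕ}

theorem ann_noFix' {k : Type*} [Field k] (hs : Group.IsSolvable F) (hB : F ≤ 𝐍(V))
    (cop : (Nat.card F).Coprime (Nat.card V)) (h : V ⊓ 𝐂(F) ≤ W) :
    NoFix (conjRep k Y) F (ann k V W) := by
  intro f hf h1
  have h3 : V ≤ annKer hf := (commutator_sup_centralizer hB cop (Or.inl hs)).ge.trans (sup_le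
    (fun x hx => ⟨commutator_le_of_le_normalizer hB hx, (mem_ann_of_fix hf hB h1).2.1 x hx⟩)
    fun x hx => ⟨hx.1, hf.2.1 _ (h hx)⟩)
  exact funext fun x => (em (x ∈ V)).elim (fun hx => (h3 hx).2) (hf.2.2 x)

theorem dvd_card_of_el (hp : p.Prime) (hVX : V ≤ X) (hE : El p V W) (h : ¬ V ≤ W) :
    p ∣ Nat.card X := by
  by_contra h1
  exact h fun x hx => mem_of_pow_mem_of_coprime (hE.pw x hx)
    (((Nat.Prime.coprime_iff_not_dvd hp).2 h1).coprime_dvd_right
      (H1.orderOf_dvd_card_of_mem (hVX hx)))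

theorem not_dvd_of_coprime {a b : ℕ} (hp : p.Prime) (h : a.Coprime b) (hb : p ∣ b) : ¬ p ∣ a :=
  fun ha => hp.one_lt.ne' (Nat.eq_one_of_dvd_coprimes h ha hb)

namespace Setup

variable (S : Setup X F R)
include S

theorem noFix {k : Type*} [Field k] (hVX : V ≤ X) (hV : F ≤ 𝐍(V)) :
    NoFix (conjRep k Y) F (ann k V W) :=
  ann_noFix' S.solv hV (coprime_of_le_right S.cF hVX)
    (((inf_le_inf_right _ hVX).trans S.fpf.le).trans bot_le)

theorem p1 {q : ℕ} (hp : p.Prime) (hq : q.Prime) (hpq : p ≠ q) (hVX : V ≤ X)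
    (hV : ∀ D, D ≤ 𝐍(X) → D ≤ 𝐍(V)) (hW : ∀ D, D ≤ 𝐍(X) → D ≤ 𝐍(W)) (hE : El p V W) {t : Y}
    (ht : t ∈ X ⊓ 𝐂(R)) (hn : ∃ n, t ^ q ^ n = 1) (h : ∀ v ∈ V ⊓ 𝐂(R), ⁅v, t⁆ ∈ W) :
    ∀ v ∈ V, ⁅v, t⁆ ∈ W := by
  have hXV := hV X le_normalizer
  have hXW := hW X le_normalizer
  by_cases h0 : V ≤ W
  · exact fun v hv => h0 (commutator_le_of_le_normalizer hXV (commutator_mem_commutator hv ht.1))
  haveI := Fact.mk hp
  haveI := Fact.mk hq
  have hpX := dvd_card_of_el hp hVX hE h0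
  have sR := H47.isSolvable_of_card_prime S.prime
  obtain ⟨Q, hQ, hAQ⟩ := exists_invariant_sylowIn (A := F ⊔ R) (sup_le S.FX S.RX)
    (coprime_card_sup S.norm S.cF S.cR) (Or.inl (by
      rw [sup_comm]; exact H1.isSolvable_sup_of_le_normalizer sR S.solv S.norm)) q
  have hRQ := le_sup_right.trans hAQ
  have hT : IsPGroup q (zpowers t) := by
    obtain ⟨n, hn⟩ := hn
    rintro ⟨_, m, rfl⟩
    refine ⟨n, Subtype.ext ?_⟩
    change (t ^ m) ^ q ^ n = 1
    rw [← zpow_natCast, ← zpow_mul, mul_comm, zpow_mul, zpow_natCast, hn, one_zpow]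
  obtain ⟨c, hc, hcQ⟩ := exists_centralizer_cj_le_of_sylowIn S.RX S.cR (Or.inl sR) hQ hRQ
    ((zpowers_le).2 ht.1) hT ((le_centralizer_iff.1 ((zpowers_le).2 ht.2)).trans
      (centralizer_le_normalizer _))
  have h1 : c * t * c⁻¹ ∈ Q := hcQ (by rw [mem_cj]; simp [mul_assoc])
  have h2 : c * t * c⁻¹ ∈ 𝐂(R) := mul_mem (mul_mem hc.2 ht.2) (inv_mem hc.2)
  have e1 : ∀ v : Y, ⁅c * t * c⁻¹, v⁆ = c * ⁅t, c⁻¹ * v * c⁆ * c⁻¹ := fun v => by
    simp only [commutatorElement_def]; group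
  let k := AlgebraicClosure (ZMod p)
  have st : ∀ D, D ≤ 𝐍(X) → D ≤ stabS (conjRep k Y) (ann k V W) := fun D hD =>
    ann_stab (hV D hD) (hW D hD)
  have hz : zpowers (c * t * c⁻¹) ≤ X := (zpowers_le).2 (hQ.le h1)
  have h3 := ann_alpha (k := k) S.prime (hV R S.RX) (coprime_of_le_right S.cR hVX)
    (hz.trans hXV) ((zpowers_le).2 h2) (commutator_le_of_generator (hXW (hQ.le h1)) fun v hv => by
      rw [e1]
      exact conj_mem_of_le_normalizer hXW hc.1 (comm_mem_symm (h _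
        ⟨inv_conj_mem_of_le_normalizer hXV hc.1 hv.1, 
          (𝐂(R)).mul_mem ((𝐂(R)).mul_mem ((𝐂(R)).inv_mem hc.2) hv.2) hc.2⟩)))
  have h4 := key (σ := conjRep k Y) (M₀ := ann k V W) S.toPair hQ.isPGroup.isNilpotent
    (st Q (hQ.le.trans le_normalizer)) (st F S.FX) (st R S.RX) (le_sup_left.trans hAQ) hRQ
    (eq_bot_iff.2 ((inf_le_inf_right _ hQ.le).trans S.fpf.le))
    (H46.natCast_algClosure_ne_zero (by
      obtain ⟨m, hm⟩ := IsPGroup.iff_card.1 hQ.isPGroup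
      rw [hm]
      exact fun e => hpq ((Nat.prime_dvd_prime_iff_eq hp hq).1 (hp.dvd_of_dvd_pow e))))
    (H46.natCast_algClosure_ne_zero (not_dvd_of_coprime hp S.cF hpX))
    (coprime_of_le_right S.cR hQ.le) (coprime_of_le_right S.cF hQ.le)
    (S.noFix hVX (hV F S.FX)) ⟨⟨h1, h2⟩, fun f hf => h3 f hf.1 hf.2 _ (mem_zpowers _)⟩
  have h5 := hE.comm_le (hz.trans hXV) ((zpowers_le).2 h4)
  intro v hv
  have h6 := inv_conj_mem_of_le_normalizer hXW hc.1 (comm_mem_symm (h5 (commutator_mem_commutator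
    (conj_mem_of_le_normalizer hXV hc.1 hv) (mem_zpowers _))))
  rw [e1] at h6
  refine comm_mem_symm ?_
  simpa [mul_assoc] using h6

theorem p2 {s : ℕ} (hs : s.Prime) (hF : IsPGroup s F) (hFR : F ≤ ⁅F, R⁆)
    (hr : ¬ ∃ j : ℕ, Nat.card R = 2 ^ j + 1) (hp : p.Prime) (hVX : V ≤ X)
    (hV : ∀ D, D ≤ 𝐍(X) → D ≤ 𝐍(V)) (hW : ∀ D, D ≤ 𝐍(X) → D ≤ 𝐍(W)) (hE : El p V W)
    (h : V ⊓ 𝐂(R) ≤ W) : V ≤ W := by
  by_contra h0
  haveI := Fact.mk hp
  haveI := Fact.mk hs
  have hpX := dvd_card_of_el hp hVX hE h0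
  let k := AlgebraicClosure (ZMod p)
  have st : ∀ D, D ≤ 𝐍(X) → D ≤ stabS (conjRep k Y) (ann k V W) := fun D hD =>
    ann_stab (hV D hD) (hW D hD)
  rcases commutator_le_kerOn_or (st F S.FX) (st R S.RX) S.norm S.prime S.solv
    (H46.natCast_algClosure_ne_zero (not_dvd_of_coprime hp S.cF hpX))
    (H46.natCast_algClosure_ne_zero (not_dvd_of_coprime hp S.cR hpX)) S.cop
    (ann_noFix S.prime (hV R S.RX) (coprime_of_le_right S.cR hVX) h) with h1 | ⟨d, d1, d2, d3⟩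
  · obtain ⟨x, hx, hx'⟩ := SetLike.not_le_iff_exists.1 h0
    obtain ⟨f, hf, hf0⟩ := hE.sep (k := k) hx hx'
    exact hf0 (congrFun (S.noFix hVX (hV F S.FX) f hf fun b hb => h1 (hFR hb) f hf) x)
  · obtain ⟨m, hm⟩ := IsPGroup.iff_card.1 hF
    obtain ⟨j, -, rfl⟩ := (Nat.dvd_prime_pow hs).1 (hm ▸ (dvd_pow_self d two_ne_zero).trans d3)
    rcases hs.eq_two_or_odd' with rfl | ho
    · exact hr ⟨j, d2⟩
    · have := S.prime.even_iff.1 (d2 ▸ ho.pow.add_one)
      omega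

theorem absP1 : P1 (𝐂(R).subgroupOf X) := by
  intro p q V W hp hq hpq _ _ hE t ht ⟨n, hn⟩ h v hv
  have := S.p1 (V := V.map X.subtype) (W := W.map X.subtype) hp hq hpq (map_subtype_le _)
    (fun D hD => le_normalizer_map_subtype_of_characteristic hD V)
    (fun D hD => le_normalizer_map_subtype_of_characteristic hD W)
    ⟨map_mono hE.le, by rw [← map_commutator]; exact map_mono hE.comm, by
      rintro _ ⟨x, hx, rfl⟩; exact ⟨x ^ p, hE.pw x hx, rfl⟩⟩ (t := t) ⟨t.2, ht⟩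
    ⟨n, congrArg Subtype.val hn⟩ (by
      rintro _ ⟨⟨x, hx, rfl⟩, hx'⟩; exact ⟨_, h x ⟨hx, hx'⟩, rfl⟩) v ⟨v, hv, rfl⟩
  obtain ⟨w, hw, e⟩ := this
  rwa [← Subtype.ext (a1 := w) (a2 := ⁅v, t⁆) e]

theorem absP2 {s : ℕ} (hs : s.Prime) (hF : IsPGroup s F) (hFR : F ≤ ⁅F, R⁆)
    (hr : ¬ ∃ j : ℕ, Nat.card R = 2 ^ j + 1) : P2 (𝐂(R).subgroupOf X) := by
  intro p V W hp _ _ hE h
  exact (map_le_map_iff_of_injective X.subtype_injective).1 <|
    S.p2 (V := V.map X.subtype) (W := W.map X.subtype) hs hF hFR hr hp (map_subtype_le _)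
    (fun D hD => le_normalizer_map_subtype_of_characteristic hD V)
    (fun D hD => le_normalizer_map_subtype_of_characteristic hD W)
    ⟨map_mono hE.le, by rw [← map_commutator]; exact map_mono hE.comm, by
      rintro _ ⟨x, hx, rfl⟩; exact ⟨x ^ p, hE.pw x hx, rfl⟩⟩ (by
      rintro _ ⟨⟨x, hx, rfl⟩, hx'⟩; exact ⟨_, h ⟨hx, hx'⟩, rfl⟩)

theorem fitting_le (hX : Group.IsSolvable X) : fittingOf (X ⊓ 𝐂(R)) ≤ fittingOf X := by
  have := map_mono (f := X.subtype) S.absP1.fitting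
  rwa [H1.map_fittingOf_of_injective X.subtype_injective, subgroupOf_map_subtype, inf_comm] at this

theorem lowFit_eq_bot (hX : Group.IsSolvable X) {s : ℕ} (hs : s.Prime) (hF : IsPGroup s F)
    (hFR : F ≤ ⁅F, R⁆) (hr : ¬ ∃ j : ℕ, Nat.card R = 2 ^ j + 1) {n : ℕ}
    (h : lowFit (X ⊓ 𝐂(R)) n = ⊥) : lowFit (⊤ : Subgroup X) n = ⊥ :=
  lowFit_top n _ _ S.absP1 (S.absP2 hs hF hFR hr) (by
    rwa [← map_eq_bot_iff_of_injective _ X.subtype_injective, map_lowFit, subgroupOf_map_subtype,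
      inf_comm])

end Setup

theorem pair_of_extraspecial {s : ℕ} (hs : s.Prime) (hr : (Nat.card R).Prime)
    (hF : IsExtraspecial s F) (hRF : R ≤ 𝐍(F)) (hc : F ≤ ⁅F, R⁆) : Pair F R := by
  haveI := Fact.mk hs
  have hZ : Nat.card (⁅F, F⁆ : Subgroup Y) = s := by
    rw [← map_subtype_commutator, card_map_of_injective F.subtype_injective, hF.1.2.2, hF.2]
  have hFF : ⁅F, F⁆ ≤ F := commutator_le_of_le_normalizer le_normalizer
  have cop : (Nat.card R).Coprime (Nat.card F) := by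
    refine H47.coprime_of_not_dvd_of_isPGroup hF.1.1 fun e => ?_
    have hR : IsPGroup s R :=
      IsPGroup.of_card (n := 1) (by rw [pow_one, (Nat.prime_dvd_prime_iff_eq hs hr).1 e])
    have := le_nres_of_le_commutator (L := R ⊔ F) le_sup_right le_sup_left hc
    rw [nres_eq_bot_iff.2 (IsPGroup.to_sup_of_normal_right' hR hF.1.1 hRF).isNilpotent] at this
    rw [le_bot_iff.1 (hFF.trans this), card_bot] at hZ
    exact hs.one_lt.ne hZ
  have hC := inf_centralizer_le_commutator hRF cop hc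
  refine ⟨hr, hRF, cop, H1.isSolvable_of_isPGroup hF.1.1, fun F₁ h1 _ => ?_⟩
  by_cases h2 : F₁ ⊓ ⁅F, F⁆ = ⊥
  · exact Or.inr ⟨eq_bot_iff.2 ((le_inf (commutator_le_of_le_normalizer le_normalizer)
      (commutator_mono h1 h1)).trans h2.le), eq_bot_iff.2 ((le_inf inf_le_left
      ((inf_le_inf_right _ h1).trans hC)).trans h2.le)⟩
  · obtain ⟨⟨a, ha⟩, ha1⟩ := Subgroup.ne_bot_iff_exists_ne_one.1 h2
    refine Or.inl (hC.trans ?_)
    rw [← zpowers_eq_of_prime (hZ ▸ hs) ha.2 fun e => ha1 (Subtype.ext e), zpowers_le]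
    exact ha.1

theorem not_dvd_card_of_fpf {s : ℕ} (hs : s.Prime) (hF : IsPGroup s F) (hFX : F ≤ 𝐍(X))
    (h : X ⊓ 𝐂(F) = ⊥) : ¬ s ∣ Nat.card X := fun e => by
  haveI := Fact.mk hs
  letI := MulAction.compHom X (conjAut hFX)
  obtain ⟨b, hb, hb1⟩ := hF.exists_fixed_point_of_prime_dvd_card_of_fixed_point X e (a := 1)
    fun g => map_one (conjAut hFX g)
  have : (b : Y) ∈ X ⊓ 𝐂(F) := ⟨b.2, fun g hg =>
    mul_inv_eq_iff_eq_mul.1 (congrArg Subtype.val (hb ⟨g, hg⟩))⟩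
  rw [h, mem_bot] at this
  exact hb1 (Subtype.ext this.symm)

theorem setup {r s : ℕ} (hr : r.Prime) (hs : s.Prime) (hR : Nat.card R = r)
    (hF : IsExtraspecial s F) (hRF : R ≤ 𝐍(F)) (hc : ⁅F, R⁆ = F) (hRX : R ≤ 𝐍(X))
    (hFX : F ≤ 𝐍(X)) (hcop : ¬ r ∣ Nat.card X) (hCF : X ⊓ 𝐂(F) = ⊥) : Setup X F R := by
  subst hR
  haveI := Fact.mk hs
  exact ⟨pair_of_extraspecial hs hr hF hRF hc.ge, hRX, hFX,
    (Nat.Prime.coprime_iff_not_dvd hr).2 hcop,
    (H47.coprime_of_not_dvd_of_isPGroup hF.1.1 (not_dvd_card_of_fpf hs hF.1.1 hFX hCF)).symm, hCF⟩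

end H49.FL
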